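import Mathlib
import Groth.Agent.GeomIrred.Basic

/-!
# Rosenlicht's lemma on units of tensor products, in the normalised form
-/

set_option autoImplicit false
universe u v w

open TensorProduct

namespace Groth.Agent.RosenlichtLib

variable {k : Type u} {K : Type v} {B : Type w} [Field k] [IsAlgClosed k] [Field K] [Algebra k K]
  [CommRing B] [IsDomain B] [Algebra k B]

/-- The coordinates of a unit of `K ⊗ B` which specialises to a nonzero constant lie in every
valuation ring containing the constants. -/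
theorem mem_valuationSubring_of_isUnit {ι : Type w} (bB : Module.Basis ι k B) (b₀ : B →ₐ[k] k)
    (R : ValuationSubring K) (hR : ∀ c : k, algebraMap k K c ∈ R) {U V : K ⊗[k] B} (hUV : U * V = 1)
    (hU : Algebra.TensorProduct.lift (AlgHom.id k K) ((Algebra.ofId k K).comp b₀)
      (fun _ _ => Commute.all _ _) U = 1)
    (hV : Algebra.TensorProduct.lift (AlgHom.id k K) ((Algebra.ofId k K).comp b₀)
      (fun _ _ => Commute.all _ _) V = 1) (i : ι) :
    (Algebra.TensorProduct.basis K bB).repr U i ∈ R := by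
  classical
  let R' : Subalgebra k K := { R.toSubring with algebraMap_mem' := hR }
  let bK := Algebra.TensorProduct.basis K bB
  let b' := Algebra.TensorProduct.basis R' bB
  let Φ : R' ⊗[k] B →ₐ[k] K ⊗[k] B := Algebra.TensorProduct.map R'.val (AlgHom.id k B)
  have hbK : ∀ j, bK j = 1 ⊗ₜ bB j := fun j => Algebra.TensorProduct.basis_apply bB j
  have hrepr : ∀ (x : R' ⊗[k] B) (j : ι), bK.repr (Φ x) j = (b'.repr x j : K) := by
    intro x j
    induction x with
    | zero => simp
    | add x y hx hy => simp [hx, hy]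
    | tmul r b => simp [Φ, bK, b', Algebra.smul_def]
  let ev : K ⊗[k] B →ₐ[k] K := Algebra.TensorProduct.lift (AlgHom.id k K)
    ((Algebra.ofId k K).comp b₀) (fun _ _ => Commute.all _ _)
  have hev : ∀ x : R' ⊗[k] B, ev (Φ x) ∈ R := by
    intro x
    induction x with
    | zero => simp
    | add x y hx hy => rw [map_add, map_add]; exact R.add_mem _ _ hx hy
    | tmul r b =>
      simp only [ev, Φ, Algebra.TensorProduct.map_tmul, Algebra.TensorProduct.lift_tmul]
      exact R.mul_mem _ _ r.2 (hR _)
  have hsmul : ∀ (c : K) (x : K ⊗[k] B), ev (c • x) = c * ev x := by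
    intro c x
    induction x with
    | zero => simp
    | add x y hx hy => rw [smul_add, map_add, map_add, hx, hy, mul_add]
    | tmul r b => simp [ev, TensorProduct.smul_tmul', mul_assoc]
  -- normalisation of a nonzero element
  have norm : ∀ X : K ⊗[k] B, X ≠ 0 → ∃ (c : K) (w : R' ⊗[k] B), c ≠ 0 ∧ c • Φ w = X ∧
      ∃ j, b'.repr w j = 1 := by
    intro X hX
    have hne : (bK.repr X).support.Nonempty := by
      rw [Finsupp.support_nonempty_iff]
      exact fun h => hX (bK.repr.injective (by rw [h, map_zero]))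
    obtain ⟨i₀, hi₀, hmax⟩ :=
      Finset.exists_max_image _ (fun j => R.valuation (bK.repr X j)) hne
    have hc : bK.repr X i₀ ≠ 0 := Finsupp.mem_support_iff.mp hi₀
    have hmem : ∀ j, (bK.repr X i₀)⁻¹ * bK.repr X j ∈ R' := by
      intro j
      show _ ∈ R
      rw [← ValuationSubring.valuation_le_one_iff, map_mul, map_inv₀]
      by_cases hj : j ∈ (bK.repr X).support
      · rw [inv_mul_le_one₀ (zero_lt_iff.mpr ((map_ne_zero _).mpr hc))]
        exact hmax j hj
      · simp [Finsupp.notMem_support_iff.mp hj]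
    let w : R' ⊗[k] B := ∑ j ∈ (bK.repr X).support, (⟨_, hmem j⟩ : R') • b' j
    have hw : ∀ j, (b'.repr w j : K) = (bK.repr X i₀)⁻¹ * bK.repr X j := by
      intro j
      simp only [w, map_sum, map_smul, Module.Basis.repr_self, Finsupp.smul_single,
        smul_eq_mul, mul_one, Finsupp.finsetSum_apply]
      by_cases hj : j ∈ (bK.repr X).support
      · rw [Finset.sum_eq_single j (fun a _ ha => by simp [ha]) (fun h => absurd hj h)]
        simp
      · rw [Finset.sum_eq_zero fun a ha => by
          rw [Finsupp.single_eq_of_ne (fun h : j = a => hj (h ▸ ha))]]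
        simp [Finsupp.notMem_support_iff.mp hj]
    refine ⟨_, w, hc, bK.repr.injective (Finsupp.ext fun j => ?_), i₀, Subtype.ext ?_⟩
    · rw [map_smul, Finsupp.smul_apply, hrepr, hw, smul_eq_mul, ← mul_assoc, mul_inv_cancel₀ hc,
        one_mul]
    · rw [hw, inv_mul_cancel₀ hc]; rfl
  obtain ⟨c, w, hc, hcU, i₀, hi₀⟩ := norm U (left_ne_zero_of_mul_eq_one hUV)
  obtain ⟨c', w', hc', hcV, j₀, hj₀⟩ := norm V (right_ne_zero_of_mul_eq_one hUV)
  have hc1 : c⁻¹ ∈ R := by
    have h : c * ev (Φ w) = 1 := by rw [← hsmul, hcU]; exact hU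
    rw [inv_eq_of_mul_eq_one_right h]; exact hev w
  have hc1' : c'⁻¹ ∈ R := by
    have h : c' * ev (Φ w') = 1 := by rw [← hsmul, hcV]; exact hV
    rw [inv_eq_of_mul_eq_one_right h]; exact hev w'
  -- reduction modulo the maximal ideal
  haveI : IsLocalRing R' := inferInstanceAs (IsLocalRing R)
  let κ := IsLocalRing.ResidueField R'
  haveI : IsDomain (κ ⊗[k] B) := GeomIrred.isDomain_tensor
  let π : R' →ₐ[k] κ := IsScalarTower.toAlgHom k R' κ
  let Ψ : R' ⊗[k] B →ₐ[k] κ ⊗[k] B := Algebra.TensorProduct.map π (AlgHom.id k B)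
  let bκ := Algebra.TensorProduct.basis κ bB
  have hreprκ : ∀ (x : R' ⊗[k] B) (j : ι), bκ.repr (Ψ x) j = π (b'.repr x j) := by
    intro x j
    induction x with
    | zero => simp
    | add x y hx hy => simp [hx, hy]
    | tmul r b => simp [Ψ, π, bκ, b', Algebra.smul_def, ← IsScalarTower.algebraMap_apply]
  have hne : ∀ (x : R' ⊗[k] B) (j : ι), b'.repr x j = 1 → Ψ x ≠ 0 := by
    intro x j hj h
    have := hreprκ x j
    rw [h, hj, map_zero, map_one] at this
    exact zero_ne_one (α := κ) this
  have hp : Ψ (w * w') ≠ 0 := by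
    rw [map_mul]; exact mul_ne_zero (hne w i₀ hi₀) (hne w' j₀ hj₀)
  obtain ⟨j, hj⟩ : ∃ j, π (b'.repr (w * w') j) ≠ 0 := by
    by_contra h
    push Not at h
    refine hp (bκ.repr.injective (Finsupp.ext fun j => ?_))
    rw [hreprκ, h, map_zero, Finsupp.zero_apply]
  have hcc : (c * c') • Φ (w * w') = 1 := by
    rw [map_mul, ← smul_mul_smul_comm, hcU, hcV, hUV]
  have hcoord : (c * c') * (b'.repr (w * w') j : K) = algebraMap k K (bB.repr 1 j) := by
    rw [← hrepr, ← smul_eq_mul, ← Finsupp.smul_apply, ← map_smul, hcc]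
    simp [bK, Algebra.TensorProduct.one_def, Algebra.smul_def]
  have hpu : IsUnit (b'.repr (w * w') j) :=
    IsLocalRing.residue_ne_zero_iff_isUnit _ |>.mp hj
  obtain ⟨q, hq⟩ := hpu.exists_right_inv
  have hccR : c * c' ∈ R := by
    have h1 : c * c' = algebraMap k K (bB.repr 1 j) * (q : K) := by
      rw [← hcoord, mul_assoc]
      have := congrArg (Subtype.val : R' → K) hq
      simp only [MulMemClass.coe_mul, OneMemClass.coe_one] at this
      rw [this, mul_one]
    rw [h1]; exact R.mul_mem _ _ (hR _) q.2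
  have hcR : c ∈ R := by
    have : c = (c * c') * c'⁻¹ := by rw [mul_assoc, mul_inv_cancel₀ hc', mul_one]
    rw [this]; exact R.mul_mem _ _ hccR hc1'
  rw [← hcU, map_smul, Finsupp.smul_apply, hrepr, smul_eq_mul]
  exact R.mul_mem _ _ hcR (b'.repr w i).2

/-- A unit on a product of two integral affine schemes which is trivial on two axes is trivial. -/
theorem unit_eq_one {A : Type v} [CommRing A] [IsDomain A] [Algebra k A] (u : (A ⊗[k] B)ˣ)
    (a₀ : A →ₐ[k] k) (b₀ : B →ₐ[k] k)
    (h₁ : Algebra.TensorProduct.lift (AlgHom.id k A) ((Algebra.ofId k A).comp b₀)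
      (fun _ _ => Commute.all _ _) (u : A ⊗[k] B) = 1)
    (h₂ : Algebra.TensorProduct.lift ((Algebra.ofId k B).comp a₀) (AlgHom.id k B)
      (fun _ _ => Commute.all _ _) (u : A ⊗[k] B) = 1) : u = 1 := by
  let K := FractionRing A
  let ι : A →ₐ[k] K := IsScalarTower.toAlgHom k A K
  let φ : A ⊗[k] B →ₐ[k] K ⊗[k] B := Algebra.TensorProduct.map ι (AlgHom.id k B)
  have hφ : Function.Injective φ :=
    Module.Flat.rTensor_preserves_injective_linearMap (M := B) ι.toLinearMap
      (IsFractionRing.injective A K)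
  let ev : K ⊗[k] B →ₐ[k] K := Algebra.TensorProduct.lift (AlgHom.id k K)
    ((Algebra.ofId k K).comp b₀) (fun _ _ => Commute.all _ _)
  have hevφ : ∀ x, ev (φ x) = ι (Algebra.TensorProduct.lift (AlgHom.id k A)
      ((Algebra.ofId k A).comp b₀) (fun _ _ => Commute.all _ _) x) := by
    intro x
    induction x with
    | zero => simp
    | add x y hx hy => simp [hx, hy]
    | tmul a b => simp [ev, φ, ι, ← IsScalarTower.algebraMap_apply]
  have hinv : Algebra.TensorProduct.lift (AlgHom.id k A) ((Algebra.ofId k A).comp b₀)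
      (fun _ _ => Commute.all _ _) ((u⁻¹ : (A ⊗[k] B)ˣ) : A ⊗[k] B) = 1 := by
    have h := congrArg (Algebra.TensorProduct.lift (AlgHom.id k A) ((Algebra.ofId k A).comp b₀)
      (fun _ _ => Commute.all _ _)) u.mul_inv
    rwa [map_mul, map_one, h₁, one_mul] at h
  let bB := Module.Free.chooseBasis k B
  let bK := Algebra.TensorProduct.basis K bB
  have hint : ∀ i, bK.repr (φ u) i ∈ Set.range (algebraMap k K) := by
    intro i
    have hmem : bK.repr (φ u) i ∈
        (⨅ V : {V : ValuationSubring K // Set.range (algebraMap k K) ⊆ V.toSubring},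
          V.1.toSubring) := by
      rw [Subring.mem_iInf]
      intro V
      refine mem_valuationSubring_of_isUnit bB b₀ V.1 (fun c => V.2 ⟨c, rfl⟩)
        (V := φ ((u⁻¹ : (A ⊗[k] B)ˣ) : A ⊗[k] B)) ?_ ?_ ?_ i
      · rw [← map_mul, Units.mul_inv, map_one]
      · exact (hevφ _).trans (by rw [h₁, map_one])
      · exact (hevφ _).trans (by rw [hinv, map_one])
    rw [iInf_valuationSubring_superset] at hmem
    have hcl : Subring.closure (Set.range (algebraMap k K)) = (algebraMap k K).range := by
      rw [← RingHom.coe_range]; exact Subring.closure_eq _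
    have h1 : IsIntegral (Subring.closure (Set.range (algebraMap k K))) (bK.repr (φ u) i) := hmem
    have h2 : (algebraMap k K).IsIntegralElem (bK.repr (φ u) i) := by
      obtain ⟨p, hp, hp'⟩ := h1
      let g : k →+* Subring.closure (Set.range (algebraMap k K)) :=
        (algebraMap k K).codRestrict _ fun c => Subring.subset_closure ⟨c, rfl⟩
      have hg : Function.Surjective g := by
        rintro ⟨x, hx⟩
        rw [hcl] at hx
        obtain ⟨c, rfl⟩ := hx
        exact ⟨c, rfl⟩
      obtain ⟨q, hq, -, hq'⟩ := Polynomial.lifts_and_degree_eq_and_monic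
        (Polynomial.lifts_iff_coeff_lifts p |>.mpr fun n => hg _) hp
      exact ⟨q, hq', by rw [← hp', ← hq, Polynomial.eval₂_map]; rfl⟩
    haveI : Algebra.IsIntegral k (Algebra.adjoin k {bK.repr (φ u) i}) :=
      Algebra.IsIntegral.adjoin (by rintro x rfl; exact h2)
    obtain ⟨c, hc⟩ := (IsAlgClosed.algebraMap_bijective_of_isIntegral (k := k)
      (K := Algebra.adjoin k {bK.repr (φ u) i})).2 ⟨_, Algebra.self_mem_adjoin_singleton k _⟩
    exact ⟨c, congrArg Subtype.val hc⟩
  choose c hc using hint
  let β : B := ∑ i ∈ (bK.repr (φ u)).support, c i • bB i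
  have hu : (u : A ⊗[k] B) = 1 ⊗ₜ β := by
    apply hφ
    refine bK.repr.injective (Finsupp.ext fun i => ?_)
    have h1 : bK.repr (φ (1 ⊗ₜ β)) i = algebraMap k K (bB.repr β i) := by
      simp [φ, bK, Algebra.smul_def]
    rw [h1]
    simp only [β, map_sum, map_smul, Module.Basis.repr_self, Finsupp.smul_single, smul_eq_mul,
      mul_one, Finsupp.finsetSum_apply]
    by_cases hi : i ∈ (bK.repr (φ u)).support
    · rw [Finset.sum_eq_single i (fun a _ ha => by simp [ha]) (fun h => absurd hi h)]
      simp [hc i]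
    · rw [Finset.sum_eq_zero fun a ha => by
        rw [Finsupp.single_eq_of_ne (fun h : i = a => hi (h ▸ ha))]
        exact map_zero (algebraMap k K)]
      simp [Finsupp.notMem_support_iff.mp hi]
  rw [hu, Algebra.TensorProduct.lift_tmul, map_one, one_mul] at h₂
  exact Units.ext (hu.trans (by rw [show β = 1 from h₂]; rfl))

end Groth.Agent.RosenlichtLib
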